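import Mathlib.Algebra.Category.ModuleCat.Abelian
import Mathlib.Algebra.Category.ModuleCat.Biproducts
import Mathlib.Algebra.Category.ModuleCat.Colimits
import Mathlib.Algebra.Homology.ShortComplex.ModuleCat
import Mathlib.Algebra.Homology.ShortComplex.ExactFunctor
import Mathlib.LinearAlgebra.DirectSum.Finsupp
import Mathlib.LinearAlgebra.TensorProduct.RightExactness
import Mathlib.CategoryTheory.Preadditive.AdditiveFunctor
import Mathlib.CategoryTheory.Abelian.GrothendieckAxioms.Basic

/-!
# Right exact functors of modules preserving sums are tensor products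
-/

set_option autoImplicit false
set_option backward.isDefEq.respectTransparency false

universe u

open CategoryTheory CategoryTheory.Limits TensorProduct

noncomputable section

namespace Groth.Agent.EW8

variable {A B : Type u} [CommRing A] [CommRing B] (F : ModuleCat.{u} A ⥤ ModuleCat.{u} B)

theorem additive_of_preservesFiniteColimits [PreservesFiniteColimits F] : F.Additive := by
  haveI := preservesBinaryBiproducts_of_preservesBinaryCoproducts F
  exact Functor.additive_of_preservesBinaryBiproducts F

/-- The morphism `A ⟶ M` given by an element. -/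
abbrev sp {M : ModuleCat.{u} A} (m : M) : ModuleCat.of A A ⟶ M :=
  ModuleCat.ofHom (LinearMap.toSpanSingleton A M m)

theorem sp_comp {M N : ModuleCat.{u} A} (m : M) (f : M ⟶ N) : sp m ≫ f = sp (f.hom m) := by
  ext; simp [sp]

theorem sp_add {M : ModuleCat.{u} A} (m m' : M) : sp (m + m') = sp m + sp m' := by
  ext; simp [sp]

theorem sp_zero {M : ModuleCat.{u} A} : sp (0 : M) = 0 := by
  ext; simp [sp]

theorem sp_comp_sp {M : ModuleCat.{u} A} (a : A) (m : M) : sp (M := ModuleCat.of A A) a ≫ sp m = sp (a • m) := by
  ext; simp [sp]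

theorem sp_one : sp (M := ModuleCat.of A A) (1 : A) = 𝟙 _ := by
  ext; simp [sp]

/-- The value at the ring, as a bimodule. -/
def K : Type u := F.obj (ModuleCat.of A A)

instance : AddCommGroup (K F) := inferInstanceAs (AddCommGroup (F.obj (ModuleCat.of A A)))

instance : Module B (K F) := inferInstanceAs (Module B (F.obj (ModuleCat.of A A)))

/-- Identify. -/
def toK (x : F.obj (ModuleCat.of A A)) : K F := x

variable [F.Additive]

/-- Evaluation at an element. -/
def ev {M : ModuleCat.{u} A} (m : M) : K F →ₗ[B] F.obj M := (F.map (sp m)).hom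

theorem ev_add {M : ModuleCat.{u} A} (m m' : M) : ev F (m + m') = ev F m + ev F m' := by
  simp only [ev]
  rw [sp_add, F.map_add]; rfl

theorem ev_zero {M : ModuleCat.{u} A} : ev F (0 : M) = 0 := by
  simp only [ev]
  rw [sp_zero, F.map_zero]; rfl

theorem ev_smul {M : ModuleCat.{u} A} (a : A) (m : M) (k : K F) :
    ev F (a • m) k = ev F m (ev F (M := ModuleCat.of A A) a k) := by
  simp only [ev]
  rw [← sp_comp_sp, F.map_comp]; rfl

theorem map_ev {M N : ModuleCat.{u} A} (f : M ⟶ N) (m : M) (k : K F) :
    F.map f (ev F m k) = ev F (f.hom m) k := by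
  simp only [ev]
  rw [← sp_comp, F.map_comp]; rfl

theorem ev_one (k : K F) : ev F (M := ModuleCat.of A A) (1 : A) k = k := by
  simp only [ev]
  rw [sp_one, F.map_id]; rfl

instance instModuleA : Module A (K F) where
  smul a k := toK F (ev F (M := ModuleCat.of A A) a k)
  one_smul k := ev_one F k
  mul_smul a b k := by
    show toK F (ev F (M := ModuleCat.of A A) (a * b) k) = toK F (ev F (M := ModuleCat.of A A) a (ev F (M := ModuleCat.of A A) b k))
    rw [mul_comm]
    exact congrArg (toK F) (ev_smul F (M := ModuleCat.of A A) b a k)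
  smul_zero a := map_zero (ev F (M := ModuleCat.of A A) a)
  smul_add a k k' := map_add (ev F (M := ModuleCat.of A A) a) k k'
  add_smul a b k := LinearMap.congr_fun (ev_add F (M := ModuleCat.of A A) a b) k
  zero_smul k := LinearMap.congr_fun (ev_zero F (M := ModuleCat.of A A)) k

theorem smul_def (a : A) (k : K F) : a • k = toK F (ev F (M := ModuleCat.of A A) a k) := rfl

instance : SMulCommClass A B (K F) :=
  ⟨fun a b k => map_smul (ev F (M := ModuleCat.of A A) a) b k⟩

/-- The comparison as an additive map. -/
def etaAdd (M : ModuleCat.{u} A) : K F ⊗[A] M →+ F.obj M :=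
  TensorProduct.liftAddHom
    { toFun := fun k =>
        { toFun := fun m => ev F m k
          map_zero' := by rw [ev_zero]; rfl
          map_add' := fun m m' => by rw [ev_add]; rfl }
      map_zero' := by ext m; exact map_zero (ev F m)
      map_add' := fun k k' => by ext m; exact map_add (ev F m) k k' }
    (fun a k m => (ev_smul F a m k).symm)

/-- The comparison. -/
def eta (M : ModuleCat.{u} A) : K F ⊗[A] M →ₗ[B] F.obj M where
  toFun := etaAdd F M
  map_add' := map_add _
  map_smul' b x := by
    induction x using TensorProduct.induction_on with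
    | zero => simp
    | tmul k m => exact map_smul (ev F m) b k
    | add x y hx hy => simp only [smul_add, map_add, hx, hy, RingHom.id_apply]

theorem eta_tmul {M : ModuleCat.{u} A} (k : K F) (m : M) : eta F M (k ⊗ₜ m) = ev F m k := rfl

theorem eta_naturality {M N : ModuleCat.{u} A} (f : M ⟶ N) (x : K F ⊗[A] M) :
    eta F N (LinearMap.lTensor (K F) f.hom x) = F.map f (eta F M x) := by
  induction x using TensorProduct.induction_on with
  | zero => simp
  | tmul k m => exact (map_ev F f m k).symm
  | add x y hx hy => simp only [map_add, hx, hy]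

theorem eta_ring_injective : Function.Injective (eta F (ModuleCat.of A A)) := by
  have h : ∀ x, toK F (eta F (ModuleCat.of A A) x) = TensorProduct.rid A (K F) x := by
    intro x
    induction x using TensorProduct.induction_on with
    | zero => simp; rfl
    | tmul k a => rfl
    | add x y hx hy => simp only [map_add, ← hx, ← hy]; rfl
  intro x y e
  exact (TensorProduct.rid A (K F)).injective ((h x).symm.trans ((congrArg (toK F) e).trans (h y)))

variable (ι : Type u)

theorem eta_free_injective : Function.Injective (eta F (ModuleCat.of A (ι →₀ A))) := by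
  classical
  rw [injective_iff_map_eq_zero]
  intro x hx
  refine (TensorProduct.finsuppScalarRight A A (K F) ι).injective ?_
  rw [map_zero]
  ext i
  have h0 : LinearMap.lTensor (K F) (Finsupp.lapply i : (ι →₀ A) →ₗ[A] A) x = 0 := by
    apply eta_ring_injective F
    refine (eta_naturality F (ModuleCat.ofHom (Finsupp.lapply i : (ι →₀ A) →ₗ[A] A)) x).trans ?_
    rw [hx, map_zero, map_zero]
  have h1 : ∀ x, TensorProduct.finsuppScalarRight A A (K F) ι x i =
      TensorProduct.rid A (K F) (LinearMap.lTensor (K F) (Finsupp.lapply i : (ι →₀ A) →ₗ[A] A) x) := by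
    intro x
    induction x using TensorProduct.induction_on with
    | zero => simp
    | tmul k p => simp [TensorProduct.finsuppScalarRight_apply_tmul_apply]
    | add x y hx hy => simp only [map_add, Finsupp.add_apply, hx, hy]
  rw [h1, h0, map_zero]; rfl

theorem eta_free_surjective [PreservesColimitsOfShape (Discrete ι) F] :
    Function.Surjective (eta F (ModuleCat.of A (ι →₀ A))) := by
  classical
  let c : Cofan (fun _ : ι => ModuleCat.of A A) :=
    Cofan.mk (ModuleCat.of A (ι →₀ A)) fun i => ModuleCat.ofHom (Finsupp.lsingle i)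
  have hc : IsColimit c := Cofan.IsColimit.mk _
    (fun s => ModuleCat.ofHom (Finsupp.lsum A fun i => (s.inj i).hom))
    (fun s i => by ext; simp [c])
    (fun s m hm => by
      apply ModuleCat.hom_ext
      refine Finsupp.lhom_ext fun i a => ?_
      have e := congrArg (fun f : ModuleCat.of A A ⟶ _ => f.hom a) (hm i)
      simpa [c] using e)
  have hc' := isColimitOfPreserves F hc
  rw [← LinearMap.range_eq_top]
  let R := LinearMap.range (eta F (ModuleCat.of A (ι →₀ A)))
  let q : F.obj (ModuleCat.of A (ι →₀ A)) ⟶ ModuleCat.of B (F.obj (ModuleCat.of A (ι →₀ A)) ⧸ R) :=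
    ModuleCat.ofHom R.mkQ
  have hq : q = 0 := hc'.hom_ext fun ⟨i⟩ => by
    rw [comp_zero]
    apply ModuleCat.hom_ext
    ext k
    refine (Submodule.Quotient.mk_eq_zero R).2 ⟨(show K F from k) ⊗ₜ[A] Finsupp.single i (1 : A), ?_⟩
    rw [eta_tmul]
    have : sp (M := ModuleCat.of A (ι →₀ A)) (Finsupp.single i (1 : A)) = c.inj i := by
      ext; simp [sp, c]
    simp only [ev, this]
    rfl
  rw [eq_top_iff]
  intro y _
  have := congrArg (fun f : F.obj (ModuleCat.of A (ι →₀ A)) ⟶ _ => f.hom y) hq
  exact (Submodule.Quotient.mk_eq_zero R).1 this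

variable {ι}

theorem eta_bijective [PreservesFiniteColimits F] [∀ J : Type u, PreservesColimitsOfShape (Discrete J) F]
    (M : ModuleCat.{u} A) : Function.Bijective (eta F M) := by
  let p : ModuleCat.of A (M →₀ A) ⟶ M := ModuleCat.ofHom (Finsupp.linearCombination A id)
  have hp : Function.Surjective p.hom := fun m => ⟨Finsupp.single m 1, by simp [p]⟩
  let q : ModuleCat.of A (LinearMap.ker p.hom →₀ A) ⟶ ModuleCat.of A (M →₀ A) :=
    ModuleCat.ofHom (Finsupp.linearCombination A (Subtype.val : LinearMap.ker p.hom → (M →₀ A)))
  have hqp : Function.Exact q.hom p.hom := by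
    intro y
    constructor
    · intro hy
      exact ⟨Finsupp.single ⟨y, hy⟩ 1, by simp [q]⟩
    · rintro ⟨z, rfl⟩
      show p.hom (Finsupp.linearCombination A Subtype.val z) = 0
      induction z using Finsupp.induction_linear with
      | zero => simp
      | add f g hf hg => simp only [map_add, hf, hg, add_zero]
      | single k a => simp [LinearMap.mem_ker.1 k.2]
  haveI : Epi p := (ModuleCat.epi_iff_surjective _).2 hp
  let S := ShortComplex.mk q p (ModuleCat.hom_ext (hqp.linearMap_comp_eq_zero))
  have hS : S.Exact := (ShortComplex.ShortExact.moduleCat_exact_iff_function_exact S).2 hqp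
  have hFS : (S.map F).Exact := hS.map_of_epi_of_preservesCokernel F (show Epi p from inferInstance) inferInstance
  have hex : Function.Exact (F.map q).hom (F.map p).hom :=
    (ShortComplex.ShortExact.moduleCat_exact_iff_function_exact (S.map F)).1 hFS
  have hFp : Function.Surjective (F.map p).hom := (ModuleCat.epi_iff_surjective _).1 inferInstance
  have hT : Function.Exact (LinearMap.lTensor (K F) q.hom) (LinearMap.lTensor (K F) p.hom) :=
    lTensor_exact (K F) hqp hp
  constructor
  · rw [injective_iff_map_eq_zero]
    intro x hx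
    obtain ⟨x0, rfl⟩ := LinearMap.lTensor_surjective (K F) hp x
    obtain ⟨y1, hy1⟩ := (hex (eta F _ x0)).1 ((eta_naturality F p x0).symm.trans hx)
    obtain ⟨x1, rfl⟩ := eta_free_surjective F _ y1
    refine (hT x0).2 ⟨x1, eta_free_injective F _ ?_⟩
    rw [eta_naturality]
    exact hy1
  · intro y
    obtain ⟨y0, rfl⟩ := hFp y
    obtain ⟨x0, rfl⟩ := eta_free_surjective F _ y0
    exact ⟨LinearMap.lTensor (K F) p.hom x0, eta_naturality F p x0⟩

/-- The comparison equivalence. -/
def equiv [PreservesFiniteColimits F] [∀ J : Type u, PreservesColimitsOfShape (Discrete J) F]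
    (M : ModuleCat.{u} A) : K F ⊗[A] M ≃ₗ[B] F.obj M :=
  LinearEquiv.ofBijective (eta F M) (eta_bijective F M)

end Groth.Agent.EW8
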